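import Groth.Agent.Sga4A.EtStalkMor
import Groth.Agent.Topos.H568.ImmPush

/-!
# Étale sheaves of sets, a closed subscheme and its open complement

* `isIso_terminal_iff`: a sheaf of sets is final iff it has exactly one section over every étale `X`-scheme
  iff all its stalks are singletons.
* `stk_pushSh_of_notMem`: the stalks of `i_* G` off the image of a closed immersion are singletons.
* `essImage_pushSh_iff`: the essential image of `i_*` consists of the sheaves with final restriction to the
  open complement.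
-/

set_option autoImplicit false
universe u

open CategoryTheory CategoryTheory.Limits AlgebraicGeometry Opposite

namespace Groth.Agent.Topos.H569.ClosedOpen

open EtDesc Groth.Agent.Sga4A.EtStalk

section Terminal

variable {X : Scheme.{u}}

/-- The final sheaf has exactly one section over every étale scheme. -/
theorem unique_sect_of_isTerminal {T : Sh X} (hT : IsTerminal T) (V : X.Etale) :
    Nonempty (Unique (sect T V)) := by
  have h1 : IsTerminal ((sheafToPresheaf X.smallEtaleTopology (Type (u + 1))).obj T) :=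
    IsTerminal.isTerminalObj _ _ hT
  have h2 : IsTerminal (((evaluation _ _).obj (op V)).obj
      ((sheafToPresheaf X.smallEtaleTopology (Type (u + 1))).obj T)) :=
    IsTerminal.isTerminalObj _ _ h1
  exact ⟨(Types.isTerminalEquivUnique _) h2⟩

/-- The stalks of the final sheaf are singletons. -/
theorem unique_stk_of_isTerminal {T : Sh X} (hT : IsTerminal T) {Ω : Type u} [Field Ω]
    [IsSepClosed Ω] (ξ : Spec (.of Ω) ⟶ X) : Nonempty (Unique (Stk T ξ)) := by
  obtain ⟨s⟩ := unique_sect_of_isTerminal hT (EtCoh.top X)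
  refine ⟨⟨⟨germTop T ξ s.default⟩, fun σ => ?_⟩⟩
  obtain ⟨U, l, hl, s', t', h1, h2⟩ := exists_germ₂ T σ (germTop T ξ s.default)
  obtain ⟨c⟩ := unique_sect_of_isTerminal hT U
  have : s' = t' := (c.uniq s').trans (c.uniq t').symm
  subst this
  exact h1.symm.trans h2

/-- A sheaf of sets all of whose stalks are singletons is final. -/
theorem isIso_terminal_of_stk (F : Sh X)
    (h : ∀ x : X, ∃ (Ω : Type u) (_ : Field Ω) (_ : IsSepClosed Ω) (ξ : Spec (.of Ω) ⟶ X),
      ξ default = x ∧ Nonempty (Unique (Stk F ξ))) : IsIso (terminal.from F) := by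
  refine isIso_of_stk _ (fun x => ?_)
  obtain ⟨Ω, _, _, ξ, hx, ⟨hu⟩⟩ := h x
  obtain ⟨hv⟩ := unique_stk_of_isTerminal (terminalIsTerminal : IsTerminal (⊤_ (Sh X))) ξ
  refine ⟨Ω, inferInstance, inferInstance, ξ, hx, ?_, ?_⟩
  · intro a b _
    exact (hu.uniq a).trans (hu.uniq b).symm
  · intro b
    exact ⟨hu.default, (hv.uniq _).trans (hv.uniq b).symm⟩

/-- The stalks of a sheaf whose map to the final sheaf is invertible are singletons. -/
theorem unique_stk_of_isIso (F : Sh X) [IsIso (terminal.from F)] {Ω : Type u} [Field Ω]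
    [IsSepClosed Ω] (ξ : Spec (.of Ω) ⟶ X) : Nonempty (Unique (Stk F ξ)) := by
  have hT : IsTerminal F := terminalIsTerminal.ofIso (asIso (terminal.from F)).symm
  exact unique_stk_of_isTerminal hT ξ

end Terminal

section Empty

variable {X : Scheme.{u}}

/-- A sheaf of sets has exactly one section over the empty scheme. -/
theorem unique_sect_of_isEmpty (F : Sh X) (V : X.Etale) [IsEmpty V.left] :
    Nonempty (Unique (sect F V)) := by
  have h1 : ∀ s t : sect F V, s = t := fun s t =>
    sect_ext F V s t (fun x => isEmptyElim x)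
  obtain ⟨s, -⟩ := exists_glue F V (fun W g s => IsEmpty W.left)
    (fun V W g k s hs => ⟨fun w => hs.false (k.left w)⟩)
    (fun W g s t hs ht => sect_ext F W s t (fun x => hs.elim x))
    (fun x => isEmptyElim x)
  exact ⟨⟨⟨s⟩, fun t => h1 _ _⟩⟩

end Empty

section Push

variable {Y X : Scheme.{u}} (i : Y ⟶ X)

/-- If the image of `V` in `X` misses the image of `i`, then the direct image has one section on `V`. -/
theorem unique_sect_pushSh (G : Sh Y) (V : X.Etale)
    (h : ∀ (v : V.left) (y : Y), V.hom v ≠ i y) : Nonempty (Unique (sect ((pushSh i).obj G) V)) := by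
  have : IsEmpty ((EtCoh.bc i).obj V).left := by
    refine ⟨fun p => ?_⟩
    refine h (bcFst i V p) (((EtCoh.bc i).obj V).hom p) ?_
    have := bc_condition i V
    have := congrArg (fun (a : ((EtCoh.bc i).obj V).left ⟶ X) => a p) this
    exact this
  exact unique_sect_of_isEmpty G ((EtCoh.bc i).obj V)

/-- The stalks of a direct image along a closed immersion off its image are singletons. -/
theorem unique_stk_pushSh (hc : IsClosed (Set.range i)) (G : Sh Y) {Ω : Type u} [Field Ω]
    [IsSepClosed Ω] (ξ : Spec (.of Ω) ⟶ X) (hξ : ξ default ∉ Set.range i) :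
    Nonempty (Unique (Stk ((pushSh i).obj G) ξ)) := by
  -- every étale neighbourhood can be shrunk to one missing the image of `i`
  have key : ∀ (V : X.Etale) (l : Spec (.of Ω) ⟶ V.left) (_ : l ≫ V.hom = ξ),
      ∃ (W : X.Etale) (g : W ⟶ V) (m : Spec (.of Ω) ⟶ W.left), m ≫ g.left = l ∧ m ≫ W.hom = ξ ∧
        ∀ (w : W.left) (y : Y), W.hom w ≠ i y := by
    intro V l hl
    let D : V.left.Opens := ⟨V.hom ⁻¹' (Set.range i)ᶜ, hc.isOpen_compl.preimage V.hom.continuous⟩
    have hl' : l default ∈ D := by
      change V.hom (l default) ∉ Set.range i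
      rw [← hl] at hξ
      exact hξ
    let W : X.Etale := Scheme.Etale.mk (D.ι ≫ V.hom)
    let g : W ⟶ V := MorphismProperty.Over.homMk D.ι rfl trivial
    obtain ⟨m, hm, -⟩ := exists_lift g l (⟨l default, hl'⟩ : D) rfl
    refine ⟨W, g, m, hm, ?_, ?_⟩
    · rw [← hl, ← hm, Category.assoc]
      exact congrArg _ (Over.w g.hom).symm
    · intro w y hw
      exact w.2 ⟨y, hw.symm⟩
  obtain ⟨W, g, m, hm, hmW, hW⟩ := key (EtCoh.top X) (topPt ξ) (topPt_hom ξ)
  obtain ⟨c⟩ := unique_sect_pushSh i G W hW
  refine ⟨⟨⟨germ ((pushSh i).obj G) m hmW c.default⟩, fun σ => ?_⟩⟩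
  obtain ⟨V, l, hl, s, t, h1, h2⟩ := exists_germ₂ ((pushSh i).obj G) σ
    (germ ((pushSh i).obj G) m hmW c.default)
  change σ = germ ((pushSh i).obj G) m hmW c.default
  rw [← h1, ← h2]
  obtain ⟨W', g', m', hm', hmW', hW'⟩ := key V l hl
  obtain ⟨c'⟩ := unique_sect_pushSh i G W' hW'
  rw [← germ_res' _ g' m' hmW' l hl hm', ← germ_res' _ g' m' hmW' l hl hm']
  exact congrArg _ ((c'.uniq _).trans (c'.uniq _).symm)

end Push

section Main

variable {Y X U : Scheme.{u}} (i : Y ⟶ X) (j : U ⟶ X)

/-- The restriction to the open complement of a direct image from the closed subscheme is final. -/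
theorem isIso_terminal_pullSh_pushSh (hc : IsClosed (Set.range i))
    (hU : Set.range j = (Set.range i)ᶜ) (G : Sh Y) :
    IsIso (terminal.from ((pullSh j).obj ((pushSh i).obj G))) := by
  refine isIso_terminal_of_stk _ (fun x => ?_)
  obtain ⟨Ω, _, _, ξ, hx⟩ := exists_geomPoint U x
  refine ⟨Ω, inferInstance, inferInstance, ξ, hx, ?_⟩
  obtain ⟨c⟩ := unique_stk_pushSh i hc G (ξ ≫ j) (by
    have h1 : (ξ ≫ j) default ∈ Set.range j := ⟨ξ default, rfl⟩
    rw [hU] at h1
    exact h1)
  exact ⟨((pullStk j ((pushSh i).obj G) ξ).symm).unique⟩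

/-- The direct image along a closed immersion detects isomorphisms together with the restriction
to the open complement. -/
theorem isIso_of_closed_open (hU : Set.range j = (Set.range i)ᶜ) {F G : Sh X} (a : F ⟶ G)
    (h1 : IsIso ((pullSh i).map a)) (h2 : IsIso ((pullSh j).map a)) : IsIso a := by
  have aux : ∀ {Z : Scheme.{u}} (f : Z ⟶ X) (_ : IsIso ((pullSh f).map a)) {Ω : Type u} [Field Ω]
      [IsSepClosed Ω] (ξ : Spec (.of Ω) ⟶ Z), Function.Bijective (mapStk a (ξ ≫ f)) := by
    intro Z f hf Ω _ _ ξ
    have h := mapStk_bijective_of_isIso ((pullSh f).map a) ξ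
    have e : mapStk a (ξ ≫ f) =
        (pullStk f G ξ).symm ∘ mapStk ((pullSh f).map a) ξ ∘ pullStk f F ξ := by
      funext σ
      simp only [Function.comp_apply]
      rw [← pullStk_mapStk, Equiv.symm_apply_apply]
    rw [e]
    exact (Equiv.bijective _).comp (h.comp (Equiv.bijective _))
  refine isIso_of_stk a (fun x => ?_)
  by_cases hx : x ∈ Set.range i
  · obtain ⟨y, rfl⟩ := hx
    obtain ⟨Ω, _, _, ξ, hξ⟩ := exists_geomPoint Y y
    exact ⟨Ω, inferInstance, inferInstance, ξ ≫ i, by rw [← hξ]; rfl, aux i h1 ξ⟩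
  · have hx' : x ∈ Set.range j := by rw [hU]; exact hx
    obtain ⟨y, rfl⟩ := hx'
    obtain ⟨Ω, _, _, ξ, hξ⟩ := exists_geomPoint U y
    exact ⟨Ω, inferInstance, inferInstance, ξ ≫ j, by rw [← hξ]; rfl, aux j h2 ξ⟩

/-- The essential image of the direct image along a closed immersion. -/
theorem essImage_pushSh_iff [IsClosedImmersion i] (hU : Set.range j = (Set.range i)ᶜ) (F : Sh X) :
    (pushSh i).essImage F ↔ IsIso (terminal.from ((pullSh j).obj F)) := by
  have hc : IsClosed (Set.range i) := i.isClosedEmbedding.isClosed_range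
  constructor
  · rintro ⟨G, ⟨e⟩⟩
    have h1 := isIso_terminal_pullSh_pushSh i j hc hU G
    have h2 : terminal.from ((pullSh j).obj F) =
        (pullSh j).map e.inv ≫ terminal.from ((pullSh j).obj ((pushSh i).obj G)) :=
      Subsingleton.elim _ _
    rw [h2]
    infer_instance
  · intro h
    have h1 := isIso_terminal_pullSh_pushSh i j hc hU ((pullSh i).obj F)
    have h2 : IsIso ((adjSh i).unit.app F) := by
      refine isIso_of_closed_open i j hU _ ?_ ?_
      · have h3 := (adjSh i).left_triangle_components F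
        have h4 := Topos.H568.ImmPush.isIso_counit i ((pullSh i).obj F)
        have h5 : (pullSh i).map ((adjSh i).unit.app F) =
            inv ((adjSh i).counit.app ((pullSh i).obj F)) := by
          rw [← cancel_mono ((adjSh i).counit.app ((pullSh i).obj F)), IsIso.inv_hom_id]
          exact h3
        rw [h5]
        infer_instance
      · have h3 : (pullSh j).map ((adjSh i).unit.app F) =
            terminal.from ((pullSh j).obj F) ≫
              inv (terminal.from ((pullSh j).obj ((pushSh i).obj ((pullSh i).obj F)))) := by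
          rw [IsIso.eq_comp_inv]
          exact Subsingleton.elim _ _
        have h4 : IsIso (terminal.from ((pullSh j).obj F) ≫
              inv (terminal.from ((pullSh j).obj ((pushSh i).obj ((pullSh i).obj F))))) := by
          infer_instance
        exact h3 ▸ h4
    exact ⟨(pullSh i).obj F, ⟨(asIso ((adjSh i).unit.app F)).symm⟩⟩

end Main

end Groth.Agent.Topos.H569.ClosedOpen
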